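import Cfsg.Agent.Lib.TCX.F24a.C0
import Cfsg.Agent.Lib.TCX.Cert

set_option autoImplicit false
set_option maxRecDepth 100000
set_option Elab.async false

namespace Cfsg.Agent.TCX.F24a

open Cfsg.Agent.CG

/-- The relators used. -/
noncomputable def R : List (List ℕ) := [[0,9,0,9],
  [1,9,1,9],
  [2,9,2,9],
  [3,9,3,9],
  [4,9,4,9],
  [5,9,5,9],
  [9,9],
  [9,10,9,10],
  [9,11,9,11],
  [0,8,0,8],
  [1,8,1,8],
  [2,8,2,8],
  [4,8,4,8],
  [5,8,5,8],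
  [8,8],
  [8,9,8,9,8,9],
  [8,10,8,10],
  [8,11,8,11],
  [0,3,0,3],
  [1,3,1,3],
  [3,3],
  [3,5,3,5],
  [3,8,3,8,3,8],
  [3,10,3,10],
  [3,11,3,11],
  [0,2,0,2],
  [2,2],
  [2,3,2,3,2,3],
  [2,5,2,5],
  [2,10,2,10],
  [2,11,2,11],
  [0,4,0,4],
  [1,4,1,4],
  [3,4,3,4,3,4],
  [4,4],
  [4,10,4,10],
  [4,11,4,11],
  [2,4,2,4],
  [1,1],
  [1,2,1,2,1,2],
  [1,5,1,5],
  [1,10,1,10],
  [1,11,1,11],
  [0,5,0,5],
  [4,5,4,5,4,5],
  [5,5],
  [5,10,5,10],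
  [5,11,5,11],
  [0,0],
  [0,1,0,1,0,1],
  [0,11,0,11],
  [0,10,0,10,0,10],
  [10,10],
  [10,11,10,11,10,11],
  [11,11],
  [0,1,2,3,4,5,8,0,1,2,3,4,5,8,0,1,2,3,4,5,8,0,1,2,3,4,5,8,0,1,2,3,4,5,8,0,1,2,3,4,5,8,0,1,2,3,4,5,8,0,1,2,3,4,5,8,0,1,2,3,4,5,8,11],
  [11,8,5,4,3,2,1,0,8,5,4,3,2,1,0,8,5,4,3,2,1,0,8,5,4,3,2,1,0,8,5,4,3,2,1,0,8,5,4,3,2,1,0,8,5,4,3,2,1,0,8,5,4,3,2,1,0,8,5,4,3,2,1,0],
  [6,6],
  [7,7]]

noncomputable def invL : List ℕ := [0,1,2,3,4,5,6,7,8,9,10,11]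

/-- How the relators used follow from the given ones. -/
noncomputable def hints : List (ℕ × Bool × List ℕ) := [(20,false,[]),
  (30,false,[]),
  (39,false,[]),
  (47,false,[]),
  (54,false,[]),
  (60,false,[]),
  (79,false,[]),
  (75,false,[]),
  (76,false,[]),
  (19,false,[]),
  (29,false,[]),
  (38,false,[]),
  (53,false,[]),
  (59,false,[]),
  (79,false,[]),
  (72,false,[]),
  (73,false,[]),
  (74,false,[]),
  (14,false,[]),
  (24,false,[]),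
  (79,false,[]),
  (43,false,[]),
  (46,false,[]),
  (48,false,[]),
  (49,false,[]),
  (13,false,[]),
  (79,false,[]),
  (33,false,[]),
  (35,false,[]),
  (40,false,[]),
  (41,false,[]),
  (15,false,[]),
  (25,false,[]),
  (42,false,[]),
  (79,false,[]),
  (55,false,[]),
  (56,false,[]),
  (34,false,[]),
  (79,false,[]),
  (23,false,[]),
  (26,false,[]),
  (31,false,[]),
  (32,false,[]),
  (16,false,[]),
  (50,false,[]),
  (79,false,[]),
  (61,false,[]),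
  (62,false,[]),
  (79,false,[]),
  (12,false,[]),
  (22,false,[]),
  (21,false,[]),
  (79,false,[]),
  (77,false,[]),
  (79,false,[]),
  (78,true,[]),
  (78,false,[]),
  (79,false,[]),
  (79,false,[])]

theorem l0g (a : ℕ) : Glue (l0c a) := fun _ _ _ => chk_append
theorem l0f0 : l0f 0 = 0 :=
  show l0c 0 0 255 = 0 from c0
theorem l0f1 : l0f 1 = 0 :=
  show l0c 1 0 255 = 0 from c1
theorem l0f2 : l0f 2 = 0 :=
  show l0c 2 0 255 = 0 from c2
theorem l0f3 : l0f 3 = 0 :=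
  show l0c 3 0 255 = 0 from c3
theorem l0f4 : l0f 4 = 0 :=
  show l0c 4 0 255 = 0 from c4
theorem l0f5 : l0f 5 = 0 :=
  show l0c 5 0 255 = 0 from c5
theorem l0f6 : l0f 6 = 0 :=
  show l0c 6 0 255 = 0 from c6
theorem l0f7 : l0f 7 = 0 :=
  show l0c 7 0 255 = 0 from c7
theorem l0f8 : l0f 8 = 0 :=
  show l0c 8 0 255 = 0 from c8
theorem l0f9 : l0f 9 = 0 :=
  show l0c 9 0 255 = 0 from c9
theorem l0f10 : l0f 10 = 0 :=
  show l0c 10 0 255 = 0 from c10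
theorem l0f11 : l0f 11 = 0 :=
  show l0c 11 0 255 = 0 from c11
theorem l0f12 : l0f 12 = 0 :=
  show l0c 12 0 255 = 0 from c12
theorem l0all : ∀ a, a < 13 → l0f a = 0 :=
  allz_snoc (allz_snoc (allz_snoc (allz_snoc (allz_snoc (allz_snoc (allz_snoc (allz_snoc (allz_snoc (allz_snoc (allz_snoc (allz_snoc (allz_snoc (allz_zero _) l0f0) l0f1) l0f2) l0f3) l0f4) l0f5) l0f6) l0f7) l0f8) l0f9) l0f10) l0f11) l0f12
theorem l0ru : allLt (rusChk R (nat_lit 12) l0R) 13 = true := by decide +kernel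
theorem l0gm : Glue l0m := fun _ _ _ => chkM_append
theorem l0mm : l0m 28431 4918 = 0 := c13
theorem l0_ok : Idx R [0,1,2,3,4,5,8,9,10,11] [0,1,2,3,4,5,8,10,11] 28431 :=
  idx_of_chk (cm := 4918) (q := 8) (d := 8) (s2 := 38) (full := 255) (f := l0f) (by decide +kernel) (by decide +kernel) (fun _ => rfl) l0all l0ru (by decide +kernel) (by decide +kernel) l0mm

theorem l1all : ∀ a, a < 13 → l1f a = 0 :=
  allz_of_orR c14
theorem l1ru : allLt (rusChk R (nat_lit 12) l1R) 13 = true := by decide +kernel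
theorem l1gm : Glue l1m := fun _ _ _ => chkM_append
theorem l1mm : l1m 120 23 = 0 := c15
theorem l1_ok : Idx R [0,1,2,3,4,5,8,10,11] [0,1,2,3,4,5,8,11] 120 :=
  idx_of_chk (cm := 23) (q := 8) (d := 1) (s2 := 24) (full := 1) (f := l1f) (by decide +kernel) (by decide +kernel) (fun _ => rfl) l1all l1ru (by decide +kernel) (by decide +kernel) l1mm

theorem l2all : ∀ a, a < 13 → l2f a = 0 :=
  allz_of_orR c16
theorem l2ru : allLt (rusChk R (nat_lit 12) l2R) 13 = true := by decide +kernel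
theorem l2gm : Glue l2m := fun _ _ _ => chkM_append
theorem l2mm : l2m 56 34 = 0 := c17
theorem l2_ok : Idx R [0,1,2,3,4,5,8,11] [1,2,3,4,5,8] 56 :=
  idx_of_chk (cm := 34) (q := 8) (d := 1) (s2 := 24) (full := 1) (f := l2f) (by decide +kernel) (by decide +kernel) (fun _ => rfl) l2all l2ru (by decide +kernel) (by decide +kernel) l2mm

theorem l3all : ∀ a, a < 13 → l3f a = 0 :=
  allz_of_orR c18
theorem l3ru : allLt (rusChk R (nat_lit 12) l3R) 13 = true := by decide +kernel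
theorem l3gm : Glue l3m := fun _ _ _ => chkM_append
theorem l3mm : l3m 27 0 = 0 := c19
theorem l3_ok : Idx R [1,2,3,4,5,8] [2,3,4,5,8] 27 :=
  idx_of_chk (cm := 0) (q := 8) (d := 1) (s2 := 24) (full := 1) (f := l3f) (by decide +kernel) (by decide +kernel) (fun _ => rfl) l3all l3ru (by decide +kernel) (by decide +kernel) l3mm

theorem l4all : ∀ a, a < 13 → l4f a = 0 :=
  allz_of_orR c20
theorem l4ru : allLt (rusChk R (nat_lit 12) l4R) 13 = true := by decide +kernel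
theorem l4gm : Glue l4m := fun _ _ _ => chkM_append
theorem l4mm : l4m 16 0 = 0 := c21
theorem l4_ok : Idx R [2,3,4,5,8] [2,3,4,5] 16 :=
  idx_of_chk (cm := 0) (q := 8) (d := 1) (s2 := 24) (full := 1) (f := l4f) (by decide +kernel) (by decide +kernel) (fun _ => rfl) l4all l4ru (by decide +kernel) (by decide +kernel) l4mm

theorem l5all : ∀ a, a < 13 → l5f a = 0 :=
  allz_of_orR c22
theorem l5ru : allLt (rusChk R (nat_lit 12) l5R) 13 = true := by decide +kernel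
theorem l5gm : Glue l5m := fun _ _ _ => chkM_append
theorem l5mm : l5m 120 0 = 0 := c23
theorem l5_ok : Idx R [2,3,4,5] [] 120 :=
  idx_of_chk (cm := 0) (q := 8) (d := 1) (s2 := 24) (full := 1) (f := l5f) (by decide +kernel) (by decide +kernel) (fun _ => rfl) l5all l5ru (by decide +kernel) (by decide +kernel) l5mm

theorem bounds : Bounds R [0,1,2,3,4,5,8,9,10,11] 9904359628800 := fun _ _ y hR =>
  (show 28431 * (120 * (56 * (27 * (16 * (120 * (1)))))) = 9904359628800 by decide +kernel) ▸ l0_ok.bound hR (l1_ok.bound hR (l2_ok.bound hR (l3_ok.bound hR (l4_ok.bound hR (l5_ok.bound hR (bound_nil y))))))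

/-- The given relators. -/
noncomputable def R0 : List (List ℕ) := [[0,0],
  [1,1],
  [2,2],
  [3,3],
  [4,4],
  [5,5],
  [6,6],
  [7,7],
  [8,8],
  [9,9],
  [10,10],
  [11,11],
  [0,1,0,1,0,1],
  [0,2,0,2],
  [0,3,0,3],
  [0,4,0,4],
  [0,5,0,5],
  [0,6,0,6],
  [0,7,0,7],
  [0,8,0,8],
  [0,9,0,9],
  [0,10,0,10,0,10],
  [0,11,0,11],
  [1,2,1,2,1,2],
  [1,3,1,3],
  [1,4,1,4],
  [1,5,1,5],
  [1,6,1,6],
  [1,7,1,7],
  [1,8,1,8],
  [1,9,1,9],
  [1,10,1,10],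
  [1,11,1,11],
  [2,3,2,3,2,3],
  [2,4,2,4],
  [2,5,2,5],
  [2,6,2,6],
  [2,7,2,7],
  [2,8,2,8],
  [2,9,2,9],
  [2,10,2,10],
  [2,11,2,11],
  [3,4,3,4,3,4],
  [3,5,3,5],
  [3,6,3,6],
  [3,7,3,7],
  [3,8,3,8,3,8],
  [3,9,3,9],
  [3,10,3,10],
  [3,11,3,11],
  [4,5,4,5,4,5],
  [4,6,4,6],
  [4,7,4,7],
  [4,8,4,8],
  [4,9,4,9],
  [4,10,4,10],
  [4,11,4,11],
  [5,6,5,6,5,6],
  [5,7,5,7],
  [5,8,5,8],
  [5,9,5,9],
  [5,10,5,10],
  [5,11,5,11],
  [6,7,6,7,6,7],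
  [6,8,6,8],
  [6,9,6,9],
  [6,10,6,10],
  [6,11,6,11],
  [7,8,7,8],
  [7,9,7,9],
  [7,10,7,10],
  [7,11,7,11],
  [8,9,8,9,8,9],
  [8,10,8,10],
  [8,11,8,11],
  [9,10,9,10],
  [9,11,9,11],
  [10,11,10,11,10,11],
  [11,8,5,4,3,2,1,0,8,5,4,3,2,1,0,8,5,4,3,2,1,0,8,5,4,3,2,1,0,8,5,4,3,2,1,0,8,5,4,3,2,1,0,8,5,4,3,2,1,0,8,5,4,3,2,1,0,8,5,4,3,2,1,0]]

theorem bounds0 : Bounds R0 [0,1,2,3,4,5,8,9,10,11] 9904359628800 :=
  bounds_of_ders (n := 12) (inv := invOf invL) (hs := hints) bounds (by decide +kernel) (invOf_ge' rfl)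
    (by decide +kernel) (by decide +kernel) (by decide +kernel)

end Cfsg.Agent.TCX.F24a
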