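import Cfsg.Agent.Lib.TCX.F24a.Defs

set_option autoImplicit false
set_option maxRecDepth 100000
set_option Elab.async false

namespace Cfsg.Agent.TCX.F24a

theorem c0 : l0c 0 0 255 = 0 := by decide +kernel
theorem c1 : l0c 1 0 255 = 0 := by decide +kernel
theorem c2 : l0c 2 0 255 = 0 := by decide +kernel
theorem c3 : l0c 3 0 255 = 0 := by decide +kernel
theorem c4 : l0c 4 0 255 = 0 := by decide +kernel
theorem c5 : l0c 5 0 255 = 0 := by decide +kernel
theorem c6 : l0c 6 0 255 = 0 := by decide +kernel
theorem c7 : l0c 7 0 255 = 0 := by decide +kernel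
theorem c8 : l0c 8 0 255 = 0 := by decide +kernel
theorem c9 : l0c 9 0 255 = 0 := by decide +kernel
theorem c10 : l0c 10 0 255 = 0 := by decide +kernel
theorem c11 : l0c 11 0 255 = 0 := by decide +kernel
theorem c12 : l0c 12 0 255 = 0 := by decide +kernel
theorem c13 : l0m 28431 4918 = 0 := by decide +kernel
theorem c14 : orR l1f 0 13 = 0 := by decide +kernel
theorem c15 : l1m 120 23 = 0 := by decide +kernel
theorem c16 : orR l2f 0 13 = 0 := by decide +kernel
theorem c17 : l2m 56 34 = 0 := by decide +kernel
theorem c18 : orR l3f 0 13 = 0 := by decide +kernel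
theorem c19 : l3m 27 0 = 0 := by decide +kernel
theorem c20 : orR l4f 0 13 = 0 := by decide +kernel
theorem c21 : l4m 16 0 = 0 := by decide +kernel
theorem c22 : orR l5f 0 13 = 0 := by decide +kernel
theorem c23 : l5m 120 0 = 0 := by decide +kernel

end Cfsg.Agent.TCX.F24a
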