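import Cfsg.Agent.Lib.TCX.F24a.D0

set_option autoImplicit false
set_option maxRecDepth 100000
set_option Elab.async false

namespace Cfsg.Agent.TCX.F24a

noncomputable def l0t0 : Bt Nat := (.node (.node l0t0_0 l0t0_2) (.node l0t0_1 l0t0_3))
noncomputable def l0t1 : Bt Nat := (.node (.node l0t1_0 l0t1_2) (.node l0t1_1 l0t1_3))
noncomputable def l0t2 : Bt Nat := (.node (.node l0t2_0 l0t2_2) (.node l0t2_1 l0t2_3))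
noncomputable def l0t3 : Bt Nat := (.node (.node l0t3_0 l0t3_2) (.node l0t3_1 l0t3_3))
noncomputable def l0t4 : Bt Nat := (.node (.node l0t4_0 l0t4_2) (.node l0t4_1 l0t4_3))
noncomputable def l0t5 : Bt Nat := (.node (.node l0t5_0 l0t5_2) (.node l0t5_1 l0t5_3))
noncomputable def l0t8 : Bt Nat := (.node (.node l0t8_0 l0t8_2) (.node l0t8_1 l0t8_3))
noncomputable def l0t9 : Bt Nat := (.node (.node l0t9_0 l0t9_2) (.node l0t9_1 l0t9_3))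
noncomputable def l0t10 : Bt Nat := (.node (.node l0t10_0 l0t10_2) (.node l0t10_1 l0t10_3))
noncomputable def l0t11 : Bt Nat := (.node (.node l0t11_0 l0t11_2) (.node l0t11_1 l0t11_3))
noncomputable def l0t12 : Bt Nat := (.node (.node l0t12_0 l0t12_2) (.node l0t12_1 l0t12_3))
noncomputable def l0t13 : Bt Nat := (.node (.node l0t13_0 l0t13_2) (.node l0t13_1 l0t13_3))
noncomputable def l0r0 : Bt Ru := (.node (.node (.node (.node (.leaf ⟨[9,0,9],0,0⟩) (.leaf ⟨[11,0,11],50,0⟩)) (.node (.leaf ⟨[4,0,4],31,0⟩) (.leaf ⟨[0],48,0⟩))) (.node (.node (.leaf ⟨[3,0,3],18,0⟩) (.leaf ⟨[0],48,0⟩)) (.node (.leaf ⟨[0],48,0⟩) (.leaf ⟨[0],48,0⟩)))) (.node (.node (.node (.leaf ⟨[8,0,8],9,0⟩) (.leaf ⟨[1,0,1,0,1],49,0⟩)) (.node (.leaf ⟨[5,0,5],43,0⟩) (.leaf ⟨[0],48,0⟩)))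 (.node (.node (.leaf ⟨[2,0,2],25,0⟩) (.leaf ⟨[0],48,0⟩)) (.node (.leaf ⟨[10,0,10,0,10],51,0⟩) (.leaf ⟨[0],48,0⟩)))))
noncomputable def l0r1 : Bt Ru := (.node (.node (.node (.node (.leaf ⟨[9,1,9],1,0⟩) (.leaf ⟨[2,1,2,1,2],39,0⟩)) (.node (.leaf ⟨[1],38,0⟩) (.leaf ⟨[1],38,0⟩))) (.node (.node (.leaf ⟨[3,1,3],19,0⟩) (.leaf ⟨[2,3,4,5,8,11,0,1,2,3,4,5,8,0,1,2,3,4,5,8,0,1,2,3,4,5,8,0,1,2,3,4,5,8,0,1,2,3,4,5,8,0,1,2,3,4,5,8,0,1,2,3,4,5,8,0,1,2,3,4,5,8,0],55,57⟩)) (.node (.leaf ⟨[0,1,0,1,0],49,5⟩) (.leaf ⟨[1],38,0⟩)))) (.node (.node (.node (.leaf ⟨[8,1,8],10,0⟩) (.leaf ⟨[11,1,11],42,0⟩)) (.node (.leaf ⟨[5,1,5],40,0⟩) (.leaf ⟨[1],38,0⟩))) (.node (.node (.leaf ⟨[4,1,4],32,0⟩) (.leaf ⟨[1],38,0⟩)) (.node (.leaf ⟨[10,1,10],41,0⟩) (.leaf ⟨[1],38,0⟩)))))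
noncomputable def l0r2 : Bt Ru := (.node (.node (.node (.node (.leaf ⟨[9,2,9],2,0⟩) (.leaf ⟨[10,2,10],29,0⟩)) (.node (.leaf ⟨[1,2,1,2,1],39,5⟩) (.leaf ⟨[2],26,0⟩))) (.node (.node (.leaf ⟨[2],26,0⟩) (.leaf ⟨[1,0,11,8,5,4,3,2,1,0,8,5,4,3,2,1,0,8,5,4,3,2,1,0,8,5,4,3,2,1,0,8,5,4,3,2,1,0,8,5,4,3,2,1,0,8,5,4,3,2,1,0,8,5,4,3,2,1,0,8,5,4,3],56,61⟩)) (.node (.leaf ⟨[3,2,3,2,3],27,0⟩) (.leaf ⟨[2],26,0⟩)))) (.node (.node (.node (.leaf ⟨[8,2,8],11,0⟩) (.leaf ⟨[11,2,11],30,0⟩)) (.node (.leaf ⟨[5,2,5],28,0⟩) (.leaf ⟨[2],26,0⟩))) (.node (.node (.leaf ⟨[4,2,4],37,0⟩) (.leaf ⟨[1,0,8,5,4,3,2,1,0,8,5,4,3,2,1,0,8,5,4,3,2,1,0,11,8,5,4,3,2,1,0,8,5,4,3,2,1,0,8,5,4,3,2,1,0,8,5,4,3,2,1,0,8,5,4,3,2,1,0,8,5,4,3],56,40⟩)) (.node (.leaf ⟨[0,2,0],25,3⟩) (.leaf ⟨[2],26,0⟩)))))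
noncomputable def l0r3 : Bt Ru := (.node (.node (.node (.node (.leaf ⟨[9,3,9],3,0⟩) (.leaf ⟨[10,3,10],23,0⟩)) (.node (.leaf ⟨[1,3,1],19,3⟩) (.leaf ⟨[3],20,0⟩))) (.node (.node (.leaf ⟨[2,3,2,3,2],27,5⟩) (.leaf ⟨[2,1,0,11,8,5,4,3,2,1,0,8,5,4,3,2,1,0,8,5,4,3,2,1,0,8,5,4,3,2,1,0,8,5,4,3,2,1,0,8,5,4,3,2,1,0,8,5,4,3,2,1,0,8,5,4,3,2,1,0,8,5,4],56,60⟩)) (.node (.leaf ⟨[0,3,0],18,3⟩) (.leaf ⟨[3],20,0⟩)))) (.node (.node (.node (.leaf ⟨[3],20,0⟩) (.leaf ⟨[11,3,11],24,0⟩)) (.node (.leaf ⟨[5,3,5],21,0⟩) (.leaf ⟨[3],20,0⟩))) (.node (.node (.leaf ⟨[4,3,4,3,4],33,0⟩) (.leaf ⟨[3],20,0⟩)) (.node (.leaf ⟨[8,3,8,3,8],22,0⟩) (.leaf ⟨[3],20,0⟩)))))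
noncomputable def l0r4 : Bt Ru := (.node (.node (.node (.node (.leaf ⟨[9,4,9],4,0⟩) (.leaf ⟨[10,4,10],35,0⟩)) (.node (.leaf ⟨[2,4,2],37,3⟩) (.leaf ⟨[4],34,0⟩))) (.node (.node (.leaf ⟨[4],34,0⟩) (.leaf ⟨[4],34,0⟩)) (.node (.leaf ⟨[1,4,1],32,3⟩) (.leaf ⟨[4],34,0⟩)))) (.node (.node (.node (.leaf ⟨[8,4,8],12,0⟩) (.leaf ⟨[11,4,11],36,0⟩)) (.node (.leaf ⟨[3,4,3,4,3],33,5⟩) (.leaf ⟨[4],34,0⟩))) (.node (.node (.leaf ⟨[5,4,5,4,5],44,0⟩) (.leaf ⟨[4],34,0⟩)) (.node (.leaf ⟨[0,4,0],31,3⟩) (.leaf ⟨[4],34,0⟩)))))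
noncomputable def l0r5 : Bt Ru := (.node (.node (.node (.node (.leaf ⟨[9,5,9],5,0⟩) (.leaf ⟨[4,5,4,5,4],44,5⟩)) (.node (.leaf ⟨[1,5,1],40,3⟩) (.leaf ⟨[5],45,0⟩))) (.node (.node (.leaf ⟨[3,5,3],21,3⟩) (.leaf ⟨[5],45,0⟩)) (.node (.leaf ⟨[0,5,0],43,3⟩) (.leaf ⟨[5],45,0⟩)))) (.node (.node (.node (.leaf ⟨[8,5,8],13,0⟩) (.leaf ⟨[11,5,11],47,0⟩)) (.node (.leaf ⟨[5],45,0⟩) (.leaf ⟨[5],45,0⟩))) (.node (.node (.leaf ⟨[2,5,2],28,3⟩) (.leaf ⟨[5],45,0⟩)) (.node (.leaf ⟨[10,5,10],46,0⟩) (.leaf ⟨[5],45,0⟩)))))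
noncomputable def l0r6 : Bt Ru := (.leaf ⟨[6],57,0⟩)
noncomputable def l0r7 : Bt Ru := (.leaf ⟨[7],58,0⟩)
noncomputable def l0r8 : Bt Ru := (.node (.node (.node (.node (.leaf ⟨[8],14,0⟩) (.leaf ⟨[9,8,9,8,9],15,0⟩)) (.node (.leaf ⟨[1,8,1],10,3⟩) (.leaf ⟨[8],14,0⟩))) (.node (.node (.leaf ⟨[2,8,2],11,3⟩) (.leaf ⟨[8],14,0⟩)) (.node (.leaf ⟨[0,8,0],9,3⟩) (.leaf ⟨[8],14,0⟩)))) (.node (.node (.node (.leaf ⟨[3,8,3,8,3],22,5⟩) (.leaf ⟨[11,8,11],17,0⟩)) (.node (.leaf ⟨[5,8,5],13,3⟩) (.leaf ⟨[8],14,0⟩))) (.node (.node (.leaf ⟨[4,8,4],12,3⟩) (.leaf ⟨[8],14,0⟩)) (.node (.leaf ⟨[10,8,10],16,0⟩) (.leaf ⟨[8],14,0⟩)))))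
noncomputable def l0r9 : Bt Ru := (.node (.node (.node (.node (.leaf ⟨[9],6,0⟩) (.leaf ⟨[10,9,10],7,0⟩)) (.node (.leaf ⟨[4,9,4],4,3⟩) (.leaf ⟨[9],6,0⟩))) (.node (.node (.leaf ⟨[3,9,3],3,3⟩) (.leaf ⟨[9],6,0⟩)) (.node (.leaf ⟨[5,9,5],5,3⟩) (.leaf ⟨[9],6,0⟩)))) (.node (.node (.node (.leaf ⟨[8,9,8,9,8],15,5⟩) (.leaf ⟨[11,9,11],8,0⟩)) (.node (.leaf ⟨[1,9,1],1,3⟩) (.leaf ⟨[9],6,0⟩))) (.node (.node (.leaf ⟨[2,9,2],2,3⟩) (.leaf ⟨[9],6,0⟩)) (.node (.leaf ⟨[0,9,0],0,3⟩) (.leaf ⟨[9],6,0⟩)))))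
noncomputable def l0r10 : Bt Ru := (.node (.node (.node (.node (.leaf ⟨[9,10,9],7,3⟩) (.leaf ⟨[11,10,11,10,11],53,0⟩)) (.node (.leaf ⟨[4,10,4],35,3⟩) (.leaf ⟨[10],52,0⟩))) (.node (.node (.leaf ⟨[3,10,3],23,3⟩) (.leaf ⟨[10],52,0⟩)) (.node (.leaf ⟨[5,10,5],46,3⟩) (.leaf ⟨[10],52,0⟩)))) (.node (.node (.node (.leaf ⟨[8,10,8],16,3⟩) (.leaf ⟨[0,10,0,10,0],51,5⟩)) (.node (.leaf ⟨[1,10,1],41,3⟩) (.leaf ⟨[10],52,0⟩))) (.node (.node (.leaf ⟨[2,10,2],29,3⟩) (.leaf ⟨[10],52,0⟩)) (.node (.leaf ⟨[10],52,0⟩) (.leaf ⟨[10],52,0⟩)))))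
noncomputable def l0r11 : Bt Ru := (.node (.node (.node (.node (.leaf ⟨[9,11,9],8,3⟩) (.leaf ⟨[11],54,0⟩)) (.node (.leaf ⟨[4,11,4],36,3⟩) (.leaf ⟨[11],54,0⟩))) (.node (.node (.leaf ⟨[3,11,3],24,3⟩) (.leaf ⟨[11],54,0⟩)) (.node (.leaf ⟨[5,11,5],47,3⟩) (.leaf ⟨[11],54,0⟩)))) (.node (.node (.node (.leaf ⟨[8,11,8],17,3⟩) (.leaf ⟨[10,11,10,11,10],53,5⟩)) (.node (.leaf ⟨[1,11,1],42,3⟩) (.leaf ⟨[11],54,0⟩))) (.node (.node (.leaf ⟨[2,11,2],30,3⟩) (.leaf ⟨[11],54,0⟩)) (.node (.leaf ⟨[0,11,0],50,3⟩) (.leaf ⟨[11],54,0⟩)))))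
noncomputable def l0r12 : Bt Ru := (.node (.node (.node (.node (.leaf ⟨[2,3,4,5,8,0,1,2,3,4,5,8,0,1,2,3,4,5,8,0,1,2,3,4,5,8,0,1,2,3,4,5,8,0,1,2,3,4,5,8,0,1,2,3,4,5,8,0,1,2,3,4,5,8,0,1,2,3,4,5,8,11,0,1],55,2⟩) (.leaf ⟨[4,9,4,9],4,0⟩)) (.node (.leaf ⟨[0,11,0,11],50,0⟩) (.leaf ⟨[8,2,8,2],11,3⟩))) (.node (.node (.leaf ⟨[4,10,4,10],35,0⟩) (.leaf ⟨[4,1,4,1],32,3⟩)) (.node (.leaf ⟨[4,2,4,2],37,3⟩) (.leaf ⟨[1,2,3,4,5,8,0,1,2,3,4,5,8,0,1,2,3,4,5,8,0,1,2,3,4,5,8,11,0,1,2,3,4,5,8,0,1,2,3,4,5,8,0,1,2,3,4,5,8,0,1,2,3,4,5,8,0,1,2,3,4,5,8,0],55,36⟩)))) (.node (.node (.node (.leaf ⟨[1,11,1,11],42,0⟩) (.leaf ⟨[11,9,11,9],8,3⟩)) (.node (.leaf ⟨[4,11,4,11],36,0⟩) (.leaf ⟨[1,9,1,9],1,0⟩))) (.node (.node (.leaf ⟨[8,0,8,0],9,3⟩) (.leaf ⟨[11,3,11,3],24,3⟩)) (.node (.leaf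 ⟨[10,2,10,2],29,3⟩) (.leaf ⟨[0,0],48,0⟩)))))
noncomputable def l1r0 : Bt Ru := (.node (.node (.node (.node (.leaf ⟨[0],48,0⟩) (.leaf ⟨[5,0,5],43,0⟩)) (.node (.leaf ⟨[10,0,10,0,10],51,0⟩) (.leaf ⟨[0],48,0⟩))) (.node (.node (.leaf ⟨[11,0,11],50,0⟩) (.leaf ⟨[0],48,0⟩)) (.node (.leaf ⟨[4,0,4],31,0⟩) (.leaf ⟨[0],48,0⟩)))) (.node (.node (.node (.leaf ⟨[1,0,1,0,1],49,0⟩) (.leaf ⟨[0],48,0⟩)) (.node (.leaf ⟨[3,0,3],18,0⟩) (.leaf ⟨[0],48,0⟩))) (.node (.node (.leaf ⟨[2,0,2],25,0⟩) (.leaf ⟨[0],48,0⟩)) (.node (.leaf ⟨[8,0,8],9,0⟩) (.leaf ⟨[0],48,0⟩)))))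
noncomputable def l1r1 : Bt Ru := (.node (.node (.node (.node (.leaf ⟨[10,1,10],41,0⟩) (.leaf ⟨[5,1,5],40,0⟩)) (.node (.leaf ⟨[3,1,3],19,0⟩) (.leaf ⟨[1],38,0⟩))) (.node (.node (.leaf ⟨[1],38,0⟩) (.leaf ⟨[1],38,0⟩)) (.node (.leaf ⟨[8,1,8],10,0⟩) (.leaf ⟨[1],38,0⟩)))) (.node (.node (.node (.leaf ⟨[11,1,11],42,0⟩) (.leaf ⟨[2,3,4,5,8,11,0,1,2,3,4,5,8,0,1,2,3,4,5,8,0,1,2,3,4,5,8,0,1,2,3,4,5,8,0,1,2,3,4,5,8,0,1,2,3,4,5,8,0,1,2,3,4,5,8,0,1,2,3,4,5,8,0],55,57⟩)) (.node (.leaf ⟨[4,1,4],32,0⟩) (.leaf ⟨[1],38,0⟩))) (.node (.node (.leaf ⟨[2,1,2,1,2],39,0⟩) (.leaf ⟨[1],38,0⟩)) (.node (.leaf ⟨[0,1,0,1,0],49,5⟩) (.leaf ⟨[1],38,0⟩)))))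
noncomputable def l1r2 : Bt Ru := (.node (.node (.node (.node (.leaf ⟨[10,2,10],29,0⟩) (.leaf ⟨[1,2,1,2,1],39,5⟩)) (.node (.leaf ⟨[3,2,3,2,3],27,0⟩) (.leaf ⟨[2],26,0⟩))) (.node (.node (.leaf ⟨[11,2,11],30,0⟩) (.leaf ⟨[2],26,0⟩)) (.node (.leaf ⟨[8,2,8],11,0⟩) (.leaf ⟨[2],26,0⟩)))) (.node (.node (.node (.leaf ⟨[0,2,0],25,3⟩) (.leaf ⟨[2],26,0⟩)) (.node (.leaf ⟨[4,2,4],37,0⟩) (.leaf ⟨[2],26,0⟩))) (.node (.node (.leaf ⟨[2],26,0⟩) (.leaf ⟨[2],26,0⟩)) (.node (.leaf ⟨[5,2,5],28,0⟩) (.leaf ⟨[2],26,0⟩)))))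
noncomputable def l1r3 : Bt Ru := (.node (.node (.node (.node (.leaf ⟨[10,3,10],23,0⟩) (.leaf ⟨[2,3,2,3,2],27,5⟩)) (.node (.leaf ⟨[3],20,0⟩) (.leaf ⟨[3],20,0⟩))) (.node (.node (.leaf ⟨[11,3,11],24,0⟩) (.leaf ⟨[3],20,0⟩)) (.node (.leaf ⟨[8,3,8,3,8],22,0⟩) (.leaf ⟨[3],20,0⟩)))) (.node (.node (.node (.leaf ⟨[0,3,0],18,3⟩) (.leaf ⟨[3],20,0⟩)) (.node (.leaf ⟨[4,3,4,3,4],33,0⟩) (.leaf ⟨[3],20,0⟩))) (.node (.node (.leaf ⟨[1,3,1],19,3⟩) (.leaf ⟨[3],20,0⟩)) (.node (.leaf ⟨[5,3,5],21,0⟩) (.leaf ⟨[3],20,0⟩)))))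
noncomputable def l1r4 : Bt Ru := (.node (.node (.node (.node (.leaf ⟨[10,4,10],35,0⟩) (.leaf ⟨[3,4,3,4,3],33,5⟩)) (.node (.leaf ⟨[2,4,2],37,3⟩) (.leaf ⟨[4],34,0⟩))) (.node (.node (.leaf ⟨[11,4,11],36,0⟩) (.leaf ⟨[4],34,0⟩)) (.node (.leaf ⟨[5,4,5,4,5],44,0⟩) (.leaf ⟨[4],34,0⟩)))) (.node (.node (.node (.leaf ⟨[0,4,0],31,3⟩) (.leaf ⟨[4],34,0⟩)) (.node (.leaf ⟨[4],34,0⟩) (.leaf ⟨[4],34,0⟩))) (.node (.node (.leaf ⟨[1,4,1],32,3⟩) (.leaf ⟨[4],34,0⟩)) (.node (.leaf ⟨[8,4,8],12,0⟩) (.leaf ⟨[4],34,0⟩)))))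
noncomputable def l1r5 : Bt Ru := (.node (.node (.node (.node (.leaf ⟨[10,5,10],46,0⟩) (.leaf ⟨[4,5,4,5,4],44,5⟩)) (.node (.leaf ⟨[2,5,2],28,3⟩) (.leaf ⟨[5],45,0⟩))) (.node (.node (.leaf ⟨[11,5,11],47,0⟩) (.leaf ⟨[5],45,0⟩)) (.node (.leaf ⟨[8,5,8],13,0⟩) (.leaf ⟨[5],45,0⟩)))) (.node (.node (.node (.leaf ⟨[0,5,0],43,3⟩) (.leaf ⟨[5],45,0⟩)) (.node (.leaf ⟨[3,5,3],21,3⟩) (.leaf ⟨[5],45,0⟩))) (.node (.node (.leaf ⟨[1,5,1],40,3⟩) (.leaf ⟨[5],45,0⟩)) (.node (.leaf ⟨[5],45,0⟩) (.leaf ⟨[5],45,0⟩)))))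
noncomputable def l1r6 : Bt Ru := (.leaf ⟨[6],57,0⟩)
noncomputable def l1r7 : Bt Ru := (.leaf ⟨[7],58,0⟩)
noncomputable def l1r8 : Bt Ru := (.node (.node (.node (.node (.leaf ⟨[10,8,10],16,0⟩) (.leaf ⟨[4,8,4],12,3⟩)) (.node (.leaf ⟨[2,8,2],11,3⟩) (.leaf ⟨[8],14,0⟩))) (.node (.node (.leaf ⟨[11,8,11],17,0⟩) (.leaf ⟨[8],14,0⟩)) (.node (.leaf ⟨[3,8,3,8,3],22,5⟩) (.leaf ⟨[8],14,0⟩)))) (.node (.node (.node (.leaf ⟨[0,8,0],9,3⟩) (.leaf ⟨[8],14,0⟩)) (.node (.leaf ⟨[8],14,0⟩) (.leaf ⟨[8],14,0⟩))) (.node (.node (.leaf ⟨[1,8,1],10,3⟩) (.leaf ⟨[8],14,0⟩)) (.node (.leaf ⟨[5,8,5],13,3⟩) (.leaf ⟨[8],14,0⟩)))))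
noncomputable def l1r9 : Bt Ru := (.leaf ⟨[9],6,0⟩)
noncomputable def l1r10 : Bt Ru := (.node (.node (.node (.node (.leaf ⟨[10],52,0⟩) (.leaf ⟨[5,10,5],46,3⟩)) (.node (.leaf ⟨[2,10,2],29,3⟩) (.leaf ⟨[10],52,0⟩))) (.node (.node (.leaf ⟨[11,10,11,10,11],53,0⟩) (.leaf ⟨[10],52,0⟩)) (.node (.leaf ⟨[4,10,4],35,3⟩) (.leaf ⟨[10],52,0⟩)))) (.node (.node (.node (.leaf ⟨[0,10,0,10,0],51,5⟩) (.leaf ⟨[10],52,0⟩)) (.node (.leaf ⟨[3,10,3],23,3⟩) (.leaf ⟨[10],52,0⟩))) (.node (.node (.leaf ⟨[1,10,1],41,3⟩) (.leaf ⟨[10],52,0⟩)) (.node (.leaf ⟨[8,10,8],16,3⟩) (.leaf ⟨[10],52,0⟩)))))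
noncomputable def l1r11 : Bt Ru := (.node (.node (.node (.node (.leaf ⟨[11],54,0⟩) (.leaf ⟨[5,11,5],47,3⟩)) (.node (.leaf ⟨[0,11,0],50,3⟩) (.leaf ⟨[11],54,0⟩))) (.node (.node (.leaf ⟨[1,11,1],42,3⟩) (.leaf ⟨[11],54,0⟩)) (.node (.leaf ⟨[4,11,4],36,3⟩) (.leaf ⟨[11],54,0⟩)))) (.node (.node (.node (.leaf ⟨[10,11,10,11,10],53,5⟩) (.leaf ⟨[11],54,0⟩)) (.node (.leaf ⟨[3,11,3],24,3⟩) (.leaf ⟨[11],54,0⟩))) (.node (.node (.leaf ⟨[2,11,2],30,3⟩) (.leaf ⟨[11],54,0⟩)) (.node (.leaf ⟨[8,11,8],17,3⟩) (.leaf ⟨[11],54,0⟩)))))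
noncomputable def l1r12 : Bt Ru := (.node (.leaf ⟨[10,4,10,4],35,3⟩) (.leaf ⟨[8,4,8,4],12,3⟩))
noncomputable def l2r0 : Bt Ru := (.node (.node (.node (.leaf ⟨[0],48,0⟩) (.leaf ⟨[4,0,4],31,0⟩)) (.node (.leaf ⟨[2,0,2],25,0⟩) (.leaf ⟨[11,0,11],50,0⟩))) (.node (.node (.leaf ⟨[1,0,1,0,1],49,0⟩) (.leaf ⟨[5,0,5],43,0⟩)) (.node (.leaf ⟨[3,0,3],18,0⟩) (.leaf ⟨[8,0,8],9,0⟩))))
noncomputable def l2r1 : Bt Ru := (.node (.node (.node (.leaf ⟨[11,1,11],42,0⟩) (.leaf ⟨[4,1,4],32,0⟩)) (.node (.leaf ⟨[2,1,2,1,2],39,0⟩) (.leaf ⟨[8,1,8],10,0⟩))) (.node (.node (.leaf ⟨[1],38,0⟩) (.leaf ⟨[5,1,5],40,0⟩)) (.node (.leaf ⟨[3,1,3],19,0⟩) (.leaf ⟨[0,8,5,4,3,2,1,0,8,5,4,3,2,1,0,8,5,4,3,2,1,0,8,5,4,3,2,1,0,8,5,4,3,2,1,0,8,5,4,3,2,1,0,8,5,4,3,2,1,0,11,8,5,4,3,2,1,0,8,5,4,3,2],56,13⟩))))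
noncomputable def l2r2 : Bt Ru := (.node (.node (.node (.leaf ⟨[0,2,0],25,3⟩) (.leaf ⟨[4,2,4],37,0⟩)) (.node (.leaf ⟨[2],26,0⟩) (.leaf ⟨[8,2,8],11,0⟩))) (.node (.node (.leaf ⟨[11,2,11],30,0⟩) (.leaf ⟨[5,2,5],28,0⟩)) (.node (.leaf ⟨[3,2,3,2,3],27,0⟩) (.leaf ⟨[1,2,1,2,1],39,5⟩))))
noncomputable def l2r3 : Bt Ru := (.node (.node (.node (.leaf ⟨[0,3,0],18,3⟩) (.leaf ⟨[4,3,4,3,4],33,0⟩)) (.node (.leaf ⟨[1,3,1],19,3⟩) (.leaf ⟨[2,3,2,3,2],27,5⟩))) (.node (.node (.leaf ⟨[11,3,11],24,0⟩) (.leaf ⟨[5,3,5],21,0⟩)) (.node (.leaf ⟨[3],20,0⟩) (.leaf ⟨[8,3,8,3,8],22,0⟩))))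
noncomputable def l2r4 : Bt Ru := (.node (.node (.node (.node (.leaf ⟨[0,4,0],31,3⟩) (.leaf ⟨[3,2,1,0,11,8,5,4,3,2,1,0,8,5,4,3,2,1,0,8,5,4,3,2,1,0,8,5,4,3,2,1,0,8,5,4,3,2,1,0,8,5,4,3,2,1,0,8,5,4,3,2,1,0,8,5,4,3,2,1,0,8,5],56,59⟩)) (.node (.leaf ⟨[4],34,0⟩) (.leaf ⟨[4],34,0⟩))) (.node (.node (.leaf ⟨[1,4,1],32,3⟩) (.leaf ⟨[4],34,0⟩)) (.node (.leaf ⟨[8,4,8],12,0⟩) (.leaf ⟨[4],34,0⟩)))) (.node (.node (.node (.leaf ⟨[11,4,11],36,0⟩) (.leaf ⟨[4],34,0⟩)) (.node (.leaf ⟨[5,4,5,4,5],44,0⟩) (.leaf ⟨[4],34,0⟩))) (.node (.node (.leaf ⟨[2,4,2],37,3⟩) (.leaf ⟨[4],34,0⟩)) (.node (.leaf ⟨[3,4,3,4,3],33,5⟩) (.leaf ⟨[4],34,0⟩)))))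
noncomputable def l2r5 : Bt Ru := (.node (.node (.node (.node (.leaf ⟨[0,5,0],43,3⟩) (.leaf ⟨[4,3,2,1,0,11,8,5,4,3,2,1,0,8,5,4,3,2,1,0,8,5,4,3,2,1,0,8,5,4,3,2,1,0,8,5,4,3,2,1,0,8,5,4,3,2,1,0,8,5,4,3,2,1,0,8,5,4,3,2,1,0,8],56,58⟩)) (.node (.leaf ⟨[3,5,3],21,3⟩) (.leaf ⟨[5],45,0⟩))) (.node (.node (.leaf ⟨[1,5,1],40,3⟩) (.leaf ⟨[5],45,0⟩)) (.node (.leaf ⟨[4,5,4,5,4],44,5⟩) (.leaf ⟨[5],45,0⟩)))) (.node (.node (.node (.leaf ⟨[11,5,11],47,0⟩) (.leaf ⟨[5],45,0⟩)) (.node (.leaf ⟨[5],45,0⟩) (.leaf ⟨[5],45,0⟩))) (.node (.node (.leaf ⟨[2,5,2],28,3⟩) (.leaf ⟨[5],45,0⟩)) (.node (.leaf ⟨[8,5,8],13,0⟩) (.leaf ⟨[5],45,0⟩)))))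
noncomputable def l2r6 : Bt Ru := (.leaf ⟨[6],57,0⟩)
noncomputable def l2r7 : Bt Ru := (.leaf ⟨[7],58,0⟩)
noncomputable def l2r8 : Bt Ru := (.node (.node (.node (.node (.leaf ⟨[0,8,0],9,3⟩) (.leaf ⟨[5,4,3,2,1,0,11,8,5,4,3,2,1,0,8,5,4,3,2,1,0,8,5,4,3,2,1,0,8,5,4,3,2,1,0,8,5,4,3,2,1,0,8,5,4,3,2,1,0,8,5,4,3,2,1,0,8,5,4,3,2,1,0],56,57⟩)) (.node (.leaf ⟨[8],14,0⟩) (.leaf ⟨[8],14,0⟩))) (.node (.node (.leaf ⟨[1,8,1],10,3⟩) (.leaf ⟨[8],14,0⟩)) (.node (.leaf ⟨[3,8,3,8,3],22,5⟩) (.leaf ⟨[8],14,0⟩)))) (.node (.node (.node (.leaf ⟨[11,8,11],17,0⟩) (.leaf ⟨[8],14,0⟩)) (.node (.leaf ⟨[4,8,4],12,3⟩) (.leaf ⟨[8],14,0⟩))) (.node (.node (.leaf ⟨[2,8,2],11,3⟩) (.leaf ⟨[8],14,0⟩)) (.node (.leaf ⟨[5,8,5],13,3⟩) (.leaf ⟨[8],14,0⟩)))))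
noncomputable def l2r9 : Bt Ru := (.leaf ⟨[9],6,0⟩)
noncomputable def l2r10 : Bt Ru := (.leaf ⟨[10],52,0⟩)
noncomputable def l2r11 : Bt Ru := (.node (.node (.node (.leaf ⟨[11],54,0⟩) (.leaf ⟨[2,11,2],30,3⟩)) (.node (.leaf ⟨[1,11,1],42,3⟩) (.leaf ⟨[5,11,5],47,3⟩))) (.node (.node (.leaf ⟨[0,11,0],50,3⟩) (.leaf ⟨[4,11,4],36,3⟩)) (.node (.leaf ⟨[3,11,3],24,3⟩) (.leaf ⟨[11],54,0⟩))))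
noncomputable def l2r12 : Bt Ru := (.node (.node (.node (.node (.leaf ⟨[0,8,0,8],9,0⟩) (.leaf ⟨[1,11,1,11],42,0⟩)) (.node (.leaf ⟨[11,8,11,8],17,3⟩) (.leaf ⟨[11,2,11,2],30,3⟩))) (.node (.node (.leaf ⟨[5,4,5,4,5,4],44,5⟩) (.leaf ⟨[2,11,2,11],30,0⟩)) (.node (.leaf ⟨[11,0,11,0],50,3⟩) (.leaf ⟨[0,0],48,0⟩)))) (.node (.node (.node (.leaf ⟨[1,8,1,8],10,0⟩) (.leaf ⟨[4,11,4,11],36,0⟩)) (.node (.leaf ⟨[8,5,8,5],13,3⟩) (.leaf ⟨[0,0],48,0⟩))) (.node (.node (.leaf ⟨[8,4,8,4],12,3⟩) (.leaf ⟨[11,1,11,1],42,3⟩)) (.node (.leaf ⟨[0,11,0,11],50,0⟩) (.leaf ⟨[0,0],48,0⟩)))))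
noncomputable def l3r0 : Bt Ru := (.leaf ⟨[0],48,0⟩)
noncomputable def l3r1 : Bt Ru := (.node (.node (.node (.leaf ⟨[1],38,0⟩) (.leaf ⟨[8,1,8],10,0⟩)) (.node (.leaf ⟨[3,1,3],19,0⟩) (.leaf ⟨[1],38,0⟩))) (.node (.node (.leaf ⟨[2,1,2,1,2],39,0⟩) (.leaf ⟨[5,1,5],40,0⟩)) (.node (.leaf ⟨[4,1,4],32,0⟩) (.leaf ⟨[1],38,0⟩))))
noncomputable def l3r2 : Bt Ru := (.node (.node (.node (.leaf ⟨[2],26,0⟩) (.leaf ⟨[5,2,5],28,0⟩)) (.node (.leaf ⟨[4,2,4],37,0⟩) (.leaf ⟨[2],26,0⟩))) (.node (.node (.leaf ⟨[3,2,3,2,3],27,0⟩) (.leaf ⟨[1,2,1,2,1],39,5⟩)) (.node (.leaf ⟨[8,2,8],11,0⟩) (.leaf ⟨[2],26,0⟩))))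
noncomputable def l3r3 : Bt Ru := (.node (.node (.node (.leaf ⟨[1,3,1],19,3⟩) (.leaf ⟨[5,3,5],21,0⟩)) (.node (.leaf ⟨[4,3,4,3,4],33,0⟩) (.leaf ⟨[3],20,0⟩))) (.node (.node (.leaf ⟨[3],20,0⟩) (.leaf ⟨[2,3,2,3,2],27,5⟩)) (.node (.leaf ⟨[8,3,8,3,8],22,0⟩) (.leaf ⟨[3],20,0⟩))))
noncomputable def l3r4 : Bt Ru := (.node (.node (.node (.leaf ⟨[1,4,1],32,3⟩) (.leaf ⟨[8,4,8],12,0⟩)) (.node (.leaf ⟨[4],34,0⟩) (.leaf ⟨[4],34,0⟩))) (.node (.node (.leaf ⟨[2,4,2],37,3⟩) (.leaf ⟨[3,4,3,4,3],33,5⟩)) (.node (.leaf ⟨[5,4,5,4,5],44,0⟩) (.leaf ⟨[4],34,0⟩))))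
noncomputable def l3r5 : Bt Ru := (.node (.node (.node (.leaf ⟨[1,5,1],40,3⟩) (.leaf ⟨[5],45,0⟩)) (.node (.leaf ⟨[3,5,3],21,3⟩) (.leaf ⟨[5],45,0⟩))) (.node (.node (.leaf ⟨[2,5,2],28,3⟩) (.leaf ⟨[4,5,4,5,4],44,5⟩)) (.node (.leaf ⟨[8,5,8],13,0⟩) (.leaf ⟨[5],45,0⟩))))
noncomputable def l3r6 : Bt Ru := (.leaf ⟨[6],57,0⟩)
noncomputable def l3r7 : Bt Ru := (.leaf ⟨[7],58,0⟩)
noncomputable def l3r8 : Bt Ru := (.node (.node (.node (.leaf ⟨[1,8,1],10,3⟩) (.leaf ⟨[5,8,5],13,3⟩)) (.node (.leaf ⟨[8],14,0⟩) (.leaf ⟨[8],14,0⟩))) (.node (.node (.leaf ⟨[2,8,2],11,3⟩) (.leaf ⟨[4,8,4],12,3⟩)) (.node (.leaf ⟨[3,8,3,8,3],22,5⟩) (.leaf ⟨[8],14,0⟩))))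
noncomputable def l3r9 : Bt Ru := (.leaf ⟨[9],6,0⟩)
noncomputable def l3r10 : Bt Ru := (.leaf ⟨[10],52,0⟩)
noncomputable def l3r11 : Bt Ru := (.leaf ⟨[11],54,0⟩)
noncomputable def l3r12 : Bt Ru := (.leaf ⟨[0,0],48,0⟩)
noncomputable def l4r0 : Bt Ru := (.leaf ⟨[0],48,0⟩)
noncomputable def l4r1 : Bt Ru := (.leaf ⟨[1],38,0⟩)
noncomputable def l4r2 : Bt Ru := (.node (.node (.node (.leaf ⟨[8,2,8],11,0⟩) (.leaf ⟨[5,2,5],28,0⟩)) (.node (.leaf ⟨[4,2,4],37,0⟩) (.leaf ⟨[2],26,0⟩))) (.node (.node (.leaf ⟨[2],26,0⟩) (.leaf ⟨[2],26,0⟩)) (.node (.leaf ⟨[3,2,3,2,3],27,0⟩) (.leaf ⟨[2],26,0⟩))))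
noncomputable def l4r3 : Bt Ru := (.node (.node (.node (.leaf ⟨[3],20,0⟩) (.leaf ⟨[8,3,8,3,8],22,0⟩)) (.node (.leaf ⟨[4,3,4,3,4],33,0⟩) (.leaf ⟨[3],20,0⟩))) (.node (.node (.leaf ⟨[2,3,2,3,2],27,5⟩) (.leaf ⟨[3],20,0⟩)) (.node (.leaf ⟨[5,3,5],21,0⟩) (.leaf ⟨[3],20,0⟩))))
noncomputable def l4r4 : Bt Ru := (.node (.node (.node (.leaf ⟨[8,4,8],12,0⟩) (.leaf ⟨[2,4,2],37,3⟩)) (.node (.leaf ⟨[5,4,5,4,5],44,0⟩) (.leaf ⟨[4],34,0⟩))) (.node (.node (.leaf ⟨[4],34,0⟩) (.leaf ⟨[4],34,0⟩)) (.node (.leaf ⟨[3,4,3,4,3],33,5⟩) (.leaf ⟨[4],34,0⟩))))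
noncomputable def l4r5 : Bt Ru := (.node (.node (.node (.leaf ⟨[8,5,8],13,0⟩) (.leaf ⟨[4,5,4,5,4],44,5⟩)) (.node (.leaf ⟨[2,5,2],28,3⟩) (.leaf ⟨[5],45,0⟩))) (.node (.node (.leaf ⟨[3,5,3],21,3⟩) (.leaf ⟨[5],45,0⟩)) (.node (.leaf ⟨[5],45,0⟩) (.leaf ⟨[5],45,0⟩))))
noncomputable def l4r6 : Bt Ru := (.leaf ⟨[6],57,0⟩)
noncomputable def l4r7 : Bt Ru := (.leaf ⟨[7],58,0⟩)
noncomputable def l4r8 : Bt Ru := (.node (.node (.node (.leaf ⟨[8],14,0⟩) (.leaf ⟨[5,8,5],13,3⟩)) (.node (.leaf ⟨[2,8,2],11,3⟩) (.leaf ⟨[8],14,0⟩))) (.node (.node (.leaf ⟨[3,8,3,8,3],22,5⟩) (.leaf ⟨[8],14,0⟩)) (.node (.leaf ⟨[4,8,4],12,3⟩) (.leaf ⟨[8],14,0⟩))))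
noncomputable def l4r9 : Bt Ru := (.leaf ⟨[9],6,0⟩)
noncomputable def l4r10 : Bt Ru := (.leaf ⟨[10],52,0⟩)
noncomputable def l4r11 : Bt Ru := (.leaf ⟨[11],54,0⟩)
noncomputable def l4r12 : Bt Ru := (.leaf ⟨[0,0],48,0⟩)
noncomputable def l5r0 : Bt Ru := (.leaf ⟨[0],48,0⟩)
noncomputable def l5r1 : Bt Ru := (.leaf ⟨[1],38,0⟩)
noncomputable def l5r2 : Bt Ru := (.node (.node (.leaf ⟨[2],26,0⟩) (.leaf ⟨[5,2,5],28,0⟩)) (.node (.leaf ⟨[4,2,4],37,0⟩) (.leaf ⟨[3,2,3,2,3],27,0⟩)))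
noncomputable def l5r3 : Bt Ru := (.node (.node (.leaf ⟨[3],20,0⟩) (.leaf ⟨[2,3,2,3,2],27,5⟩)) (.node (.leaf ⟨[5,3,5],21,0⟩) (.leaf ⟨[4,3,4,3,4],33,0⟩)))
noncomputable def l5r4 : Bt Ru := (.node (.node (.leaf ⟨[4],34,0⟩) (.leaf ⟨[2,4,2],37,3⟩)) (.node (.leaf ⟨[3,4,3,4,3],33,5⟩) (.leaf ⟨[5,4,5,4,5],44,0⟩)))
noncomputable def l5r5 : Bt Ru := (.node (.node (.leaf ⟨[5],45,0⟩) (.leaf ⟨[4,5,4,5,4],44,5⟩)) (.node (.leaf ⟨[2,5,2],28,3⟩) (.leaf ⟨[3,5,3],21,3⟩)))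
noncomputable def l5r6 : Bt Ru := (.leaf ⟨[6],57,0⟩)
noncomputable def l5r7 : Bt Ru := (.leaf ⟨[7],58,0⟩)
noncomputable def l5r8 : Bt Ru := (.leaf ⟨[8],14,0⟩)
noncomputable def l5r9 : Bt Ru := (.leaf ⟨[9],6,0⟩)
noncomputable def l5r10 : Bt Ru := (.leaf ⟨[10],52,0⟩)
noncomputable def l5r11 : Bt Ru := (.leaf ⟨[11],54,0⟩)
noncomputable def l5r12 : Bt Ru := (.leaf ⟨[0,0],48,0⟩)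
noncomputable def l0T : List (Bt Nat) := [l0t0, l0t1, l0t2, l0t3, l0t4, l0t5, (.leaf (nat_lit 0)), (.leaf (nat_lit 0)), l0t8, l0t9, l0t10, l0t11, l0t12, l0t13]
noncomputable def l0R : List (Bt Ru) := [l0r0, l0r1, l0r2, l0r3, l0r4, l0r5, l0r6, l0r7, l0r8, l0r9, l0r10, l0r11, l0r12]
noncomputable def l0c (a lo cnt : Nat) : Nat := chk (gT l0T (nat_lit 14)) (rT l0R) (nat_lit 14) (nat_lit 0x3fffc0) (nat_lit 0x3fc000) (nat_lit 0x3fc0) (nat_lit 12) (nat_lit 22) (nat_lit 0xffff) (nat_lit 0x8000003fffffffff) (nat_lit 17) (nat_lit 32) (nat_lit 3391) (nat_lit 0x20d100) a (nfOf [0,1,2,3,4,5,8,9,10,11] 28431 a) lo cnt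
noncomputable def l0f (a : Nat) : Nat := l0c a 0 255
noncomputable def l0m (lo cnt : Nat) : Nat := chkM (gT l0T (nat_lit 14)) (nat_lit 14) (nat_lit 0x3fffc0) (nat_lit 0x3fc000) (nat_lit 0x3fc0) (nat_lit 12) lo cnt
noncomputable def l1T : List (Bt Nat) := [l1t0, l1t1, l1t2, l1t3, l1t4, l1t5, (.leaf (nat_lit 0)), (.leaf (nat_lit 0)), l1t8, (.leaf (nat_lit 0)), l1t10, l1t11, l1t12, l1t13]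
noncomputable def l1R : List (Bt Ru) := [l1r0, l1r1, l1r2, l1r3, l1r4, l1r5, l1r6, l1r7, l1r8, l1r9, l1r10, l1r11, l1r12]
noncomputable def l1c (a lo cnt : Nat) : Nat := chk (gT l1T (nat_lit 14)) (rT l1R) (nat_lit 14) (nat_lit 0x7fc0) (nat_lit 0x4000) (nat_lit 0x3fc0) (nat_lit 12) (nat_lit 15) (nat_lit 511) (nat_lit 0x8000000000ffffff) (nat_lit 12) (nat_lit 22) (nat_lit 2367) (nat_lit 0x6380) a (nfOf [0,1,2,3,4,5,8,10,11] 120 a) lo cnt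
noncomputable def l1f (a : Nat) : Nat := l1c a 0 1
noncomputable def l1m (lo cnt : Nat) : Nat := chkM (gT l1T (nat_lit 14)) (nat_lit 14) (nat_lit 0x7fc0) (nat_lit 0x4000) (nat_lit 0x3fc0) (nat_lit 12) lo cnt
noncomputable def l2T : List (Bt Nat) := [l2t0, l2t1, l2t2, l2t3, l2t4, l2t5, (.leaf (nat_lit 0)), (.leaf (nat_lit 0)), l2t8, (.leaf (nat_lit 0)), (.leaf (nat_lit 0)), l2t11, l2t12, l2t13]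
noncomputable def l2R : List (Bt Ru) := [l2r0, l2r1, l2r2, l2r3, l2r4, l2r5, l2r6, l2r7, l2r8, l2r9, l2r10, l2r11, l2r12]
noncomputable def l2c (a lo cnt : Nat) : Nat := chk (gT l2T (nat_lit 14)) (rT l2R) (nat_lit 14) (nat_lit 0x7fc0) (nat_lit 0x4000) (nat_lit 0x3fc0) (nat_lit 12) (nat_lit 15) (nat_lit 511) (nat_lit 0x8000000000ffffff) (nat_lit 15) (nat_lit 28) (nat_lit 318) (nat_lit 0x5640) a (nfOf [0,1,2,3,4,5,8,11] 56 a) lo cnt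
noncomputable def l2f (a : Nat) : Nat := l2c a 0 1
noncomputable def l2m (lo cnt : Nat) : Nat := chkM (gT l2T (nat_lit 14)) (nat_lit 14) (nat_lit 0x7fc0) (nat_lit 0x4000) (nat_lit 0x3fc0) (nat_lit 12) lo cnt
noncomputable def l3T : List (Bt Nat) := [(.leaf (nat_lit 0)), l3t1, l3t2, l3t3, l3t4, l3t5, (.leaf (nat_lit 0)), (.leaf (nat_lit 0)), l3t8, (.leaf (nat_lit 0)), (.leaf (nat_lit 0)), (.leaf (nat_lit 0)), (.leaf (nat_lit 0)), l3t13]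
noncomputable def l3R : List (Bt Ru) := [l3r0, l3r1, l3r2, l3r3, l3r4, l3r5, l3r6, l3r7, l3r8, l3r9, l3r10, l3r11, l3r12]
noncomputable def l3c (a lo cnt : Nat) : Nat := chk (gT l3T (nat_lit 14)) (rT l3R) (nat_lit 14) (nat_lit 0x7fc0) (nat_lit 0x4000) (nat_lit 0x3fc0) (nat_lit 12) (nat_lit 15) (nat_lit 511) (nat_lit 0x8000000000ffffff) (nat_lit 8) (nat_lit 14) (nat_lit 316) (nat_lit 0x4680) a (nfOf [1,2,3,4,5,8] 27 a) lo cnt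
noncomputable def l3f (a : Nat) : Nat := l3c a 0 1
noncomputable def l3m (lo cnt : Nat) : Nat := chkM (gT l3T (nat_lit 14)) (nat_lit 14) (nat_lit 0x7fc0) (nat_lit 0x4000) (nat_lit 0x3fc0) (nat_lit 12) lo cnt
noncomputable def l4T : List (Bt Nat) := [(.leaf (nat_lit 0)), (.leaf (nat_lit 0)), l4t2, l4t3, l4t4, l4t5, (.leaf (nat_lit 0)), (.leaf (nat_lit 0)), l4t8, (.leaf (nat_lit 0)), (.leaf (nat_lit 0)), (.leaf (nat_lit 0)), (.leaf (nat_lit 0)), l4t13]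
noncomputable def l4R : List (Bt Ru) := [l4r0, l4r1, l4r2, l4r3, l4r4, l4r5, l4r6, l4r7, l4r8, l4r9, l4r10, l4r11, l4r12]
noncomputable def l4c (a lo cnt : Nat) : Nat := chk (gT l4T (nat_lit 14)) (rT l4R) (nat_lit 14) (nat_lit 0x7fc0) (nat_lit 0x4000) (nat_lit 0x3fc0) (nat_lit 12) (nat_lit 15) (nat_lit 511) (nat_lit 0x8000000000ffffff) (nat_lit 7) (nat_lit 12) (nat_lit 60) (nat_lit 0x43c0) a (nfOf [2,3,4,5,8] 16 a) lo cnt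
noncomputable def l4f (a : Nat) : Nat := l4c a 0 1
noncomputable def l4m (lo cnt : Nat) : Nat := chkM (gT l4T (nat_lit 14)) (nat_lit 14) (nat_lit 0x7fc0) (nat_lit 0x4000) (nat_lit 0x3fc0) (nat_lit 12) lo cnt
noncomputable def l5T : List (Bt Nat) := [(.leaf (nat_lit 0)), (.leaf (nat_lit 0)), l5t2, l5t3, l5t4, l5t5, (.leaf (nat_lit 0)), (.leaf (nat_lit 0)), (.leaf (nat_lit 0)), (.leaf (nat_lit 0)), (.leaf (nat_lit 0)), (.leaf (nat_lit 0)), (.leaf (nat_lit 0)), l5t13]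
noncomputable def l5R : List (Bt Ru) := [l5r0, l5r1, l5r2, l5r3, l5r4, l5r5, l5r6, l5r7, l5r8, l5r9, l5r10, l5r11, l5r12]
noncomputable def l5c (a lo cnt : Nat) : Nat := chk (gT l5T (nat_lit 14)) (rT l5R) (nat_lit 14) (nat_lit 0x7fc0) (nat_lit 0x4000) (nat_lit 0x3fc0) (nat_lit 12) (nat_lit 15) (nat_lit 511) (nat_lit 0x8000000000ffffff) (nat_lit 6) (nat_lit 10) (nat_lit 0) (nat_lit 0x5dc0) a (nfOf [2,3,4,5] 120 a) lo cnt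
noncomputable def l5f (a : Nat) : Nat := l5c a 0 1
noncomputable def l5m (lo cnt : Nat) : Nat := chkM (gT l5T (nat_lit 14)) (nat_lit 14) (nat_lit 0x7fc0) (nat_lit 0x4000) (nat_lit 0x3fc0) (nat_lit 12) lo cnt

end Cfsg.Agent.TCX.F24a
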